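import Groth.Prelude.Def_EtAcyc
import Groth.Agent.EtpbcB.TorsVanN
import Groth.Agent.EtpbcA.RpushTors
import Groth.Agent.EtpbcB.TorsionBasic

/-!
# `L`-torsion sheaves (`EtAcyc.IsLTorsion`)

`EtAcyc.IsLTorsion L F` is definitionally `TorsEtN.TorsionN (ord L) F` with
`ord L = {m | EtAcyc.PrimesIn L m}`, a set of allowed orders (`TorsSubN.IsOrd`).  All the results of
`EtpbcB.TorsSubN`, `EtpbcB.TorsEtN`, `EtpbcB.TorsVanN` apply.
-/

set_option autoImplicit false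
universe u

open CategoryTheory CategoryTheory.Limits AlgebraicGeometry Opposite
open Groth.Agent.EtpbcB.NKill Groth.Agent.EtpbcB.NKillEt Groth.Agent.EtpbcB.TorsSubN
  Groth.Agent.EtpbcB.TorsEtN

namespace Groth.Agent.Etbc.H183.LTors

/-- The positive integers with all prime factors in `L`. -/
def ord (L : Set ℕ) : Set ℕ := {m | EtAcyc.PrimesIn L m}

theorem mem_ord {L : Set ℕ} {m : ℕ} : m ∈ ord L ↔ EtAcyc.PrimesIn L m := Iff.rfl

theorem isOrd (L : Set ℕ) : IsOrd (ord L) where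
  one_mem := ⟨Nat.one_pos, fun _ hp h => absurd (Nat.dvd_one.1 h) hp.ne_one⟩
  mul_mem := fun hm hn => ⟨Nat.mul_pos hm.1 hn.1, fun p hp h =>
    ((Nat.Prime.dvd_mul hp).1 h).elim (hm.2 p hp) (hn.2 p hp)⟩
  of_dvd := fun h hn => ⟨Nat.pos_of_dvd_of_pos h hn.1, fun p hp hpm => hn.2 p hp (hpm.trans h)⟩
  pos := fun h => h.1

theorem prime_mem_ord {L : Set ℕ} {l : ℕ} (hl : l.Prime) : l ∈ ord L ↔ l ∈ L := by
  constructor
  · intro h
    exact h.2 l hl dvd_rfl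
  · intro h
    refine ⟨hl.pos, fun p hp hpl => ?_⟩
    rwa [(Nat.prime_dvd_prime_iff_eq hp hl).1 hpl]

variable {X Y : Scheme.{u}} {L : Set ℕ}

theorem isLTorsion_iff (F : EtCoh.Ab X) : EtAcyc.IsLTorsion L F ↔ TorsionN (ord L) F := Iff.rfl

theorem isLTorsion_iff_stalk (F : EtCoh.Ab X) : EtAcyc.IsLTorsion L F ↔
    ∀ (Ω : Type u) [Field Ω] [IsSepClosed Ω] (ξ : Spec (CommRingCat.of Ω) ⟶ X)
      (t : (EtCoh.stalk ξ).obj F), ∃ n : ℕ, EtAcyc.PrimesIn L n ∧ n • t = 0 :=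
  torsionN_iff_stalk (ord L) F

theorem isLTorsion_pull (f : X ⟶ Y) {F : EtCoh.Ab Y} (hF : EtAcyc.IsLTorsion L F) :
    EtAcyc.IsLTorsion L ((EtCoh.pull f).obj F) :=
  torsionN_pull (ord L) f F hF

theorem isLTorsion_of_epi {F G : EtCoh.Ab X} (φ : F ⟶ G) [Epi φ] (hF : EtAcyc.IsLTorsion L F) :
    EtAcyc.IsLTorsion L G := torsionN_of_epi (N := ord L) φ hF

theorem isLTorsion_of_mono {F G : EtCoh.Ab X} (φ : F ⟶ G) [Mono φ] (hG : EtAcyc.IsLTorsion L G) :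
    EtAcyc.IsLTorsion L F := torsionN_of_mono (N := ord L) φ hG

theorem isLTorsion_of_iso {F G : EtCoh.Ab X} (e : F ≅ G) (hF : EtAcyc.IsLTorsion L F) :
    EtAcyc.IsLTorsion L G := isLTorsion_of_epi e.hom hF

theorem isLTorsion_of_killedBy {m : ℕ} (hm : EtAcyc.PrimesIn L m) {F : EtCoh.Ab X}
    (h : EtCoh.KilledBy m F) : EtAcyc.IsLTorsion L F := torsionN_of_killedBy (N := ord L) hm F h

theorem isLTorsion_of_killedBy_prime {l : ℕ} (hl : l.Prime) (hlL : l ∈ L) {F : EtCoh.Ab X}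
    (h : EtCoh.KilledBy l F) : EtAcyc.IsLTorsion L F :=
  isLTorsion_of_killedBy ((prime_mem_ord hl).2 hlL) h

theorem isTorsion_of_isLTorsion {F : EtCoh.Ab X} (hF : EtAcyc.IsLTorsion L F) :
    EtCoh.IsTorsion F := isTorsion_of_torsionN (isOrd L) hF

theorem isLTorsion_mono {L' : Set ℕ} (h : L ⊆ L') {F : EtCoh.Ab X} (hF : EtAcyc.IsLTorsion L F) :
    EtAcyc.IsLTorsion L' F :=
  torsionN_mono (N := ord L) (N' := ord L') (fun _ hm => ⟨hm.1, fun p hp hpm => h (hm.2 p hp hpm)⟩) hF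

/-- The `L`-torsion part of a sheaf is `L`-torsion. -/
theorem isLTorsion_torsN (F : EtCoh.Ab X) : EtAcyc.IsLTorsion L (torsN (ord L) F) :=
  torsionN_torsN (isOrd L) F

theorem isLTorsion_tor {m : ℕ} (hm : EtAcyc.PrimesIn L m) (F : EtCoh.Ab X) :
    EtAcyc.IsLTorsion L (tor m F) := torsionN_tor (N := ord L) hm F

theorem isLTorsion_of_isZero {F : EtCoh.Ab X} (hF : IsZero F) : EtAcyc.IsLTorsion L F := by
  refine isLTorsion_of_killedBy (m := 1) (isOrd L).one_mem ?_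
  intro U s
  have h : (𝟙 F : F ⟶ F) = 0 := hF.eq_of_src _ _
  have h2 := congrArg (fun φ : F ⟶ F => φ.hom.app (op U) s) h
  rw [one_smul]
  exact h2

/-- Sections over a quasi-compact étale scheme of an `N`-torsion sheaf are killed by an element of
`N`. -/
theorem exists_nsmul_eq_zero_of_compact {N : Set ℕ} (hN : IsOrd N) (F : EtCoh.Ab X)
    (hF : TorsionN N F) (U : X.Etale) [CompactSpace U.left] (s : EtCoh.sect F U) :
    ∃ m : ℕ, m ∈ N ∧ m • s = 0 := by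
  classical
  let W : N → Set U.left := fun m => {x | Groth.Agent.Etbase.EtSections.VanishesAt F U (m.1 • s) x}
  have hW : ∀ m, IsOpen (W m) := fun m =>
    Groth.Agent.Etbase.EtSections.isOpen_vanishesAt F U _
  have hcov : (⋃ m, W m) = Set.univ := by
    rw [Set.eq_univ_iff_forall]
    intro x
    obtain ⟨V, g, m, ⟨v, hv⟩, hm, hgm⟩ := hF U s x
    refine Set.mem_iUnion.2 ⟨⟨m, hm⟩, V, g, v, hv, ?_⟩
    rw [map_nsmul]
    exact hgm
  obtain ⟨T, hT⟩ := isCompact_univ.elim_finite_subcover W hW (by rw [hcov])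
  refine ⟨∏ m ∈ T, m.1, ?_, ?_⟩
  · exact Finset.prod_induction _ (· ∈ N) (fun _ _ ha hb => hN.mul_mem ha hb) hN.one_mem
      (fun m _ => m.2)
  · apply Groth.Agent.Etbase.EtSections.eq_zero_of_vanishesAt F U
    intro x
    obtain ⟨m, hm⟩ := Set.mem_iUnion.1 (hT (Set.mem_univ x))
    obtain ⟨hmT, V, g, v, hv, h0⟩ := Set.mem_iUnion.1 hm
    refine ⟨V, g, v, hv, ?_⟩
    obtain ⟨c, hc⟩ := Finset.dvd_prod_of_mem (fun m : N => m.1) hmT
    rw [hc, mul_comm, mul_smul, map_nsmul, h0, smul_zero]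

/-- Direct images of `N`-torsion sheaves along quasi-compact morphisms are `N`-torsion. -/
theorem torsionN_push {N : Set ℕ} (hN : IsOrd N) (f : X ⟶ Y) [QuasiCompact f] (F : EtCoh.Ab X)
    (hF : TorsionN N F) : TorsionN N ((EtCoh.push f).obj F) := by
  intro U s x
  obtain ⟨V, g, hV, -, v, hv⟩ := Groth.Agent.Etrest.Site0.exists_affine U x
  have := Groth.Agent.EtpbcA.RpushTors.compactSpace_bc f V hV
  obtain ⟨m, hm, h⟩ := exists_nsmul_eq_zero_of_compact hN F hF ((EtCoh.bc f).obj V)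
    (((EtCoh.push f).obj F).obj.map g.op s)
  exact ⟨V, g, m, ⟨v, hv⟩, hm, h⟩

theorem isLTorsion_push (f : X ⟶ Y) [QuasiCompact f] {F : EtCoh.Ab X}
    (hF : EtAcyc.IsLTorsion L F) : EtAcyc.IsLTorsion L ((EtCoh.push f).obj F) :=
  torsionN_push (isOrd L) f F hF

end Groth.Agent.Etbc.H183.LTors
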