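import Groth.Agent.EtpbcB.BCStrict
import Groth.Agent.EtpbcA.LAUnit
import Groth.Agent.EtpbcB.IntegralDegZero

/-!
# Degree zero base change in terms of strict localizations

For a cartesian square `Y = X ×_S T`, `g : T ⟶ S` quasi-compact quasi-separated, `f : X ⟶ S`, `F` on `T` and
a geometric point `ξ` of `X`: the base change map `f⁻¹ g_* F ⟶ h_* e⁻¹ F` is an isomorphism at `ξ` iff
`H^0(T ×_S Spec O^sh_S, F) ⟶ H^0(T ×_S Spec O^sh_X, F)` is bijective (`isIso_pull_iff`).
-/

set_option autoImplicit false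
universe u
open CategoryTheory CategoryTheory.Limits AlgebraicGeometry Opposite

namespace Groth.Agent.Etbc.H183.StrictBC0

open EtCoh Groth.Agent.EtpbcA Groth.Agent.EtpbcB Groth.Agent.EtpbcB.StrictLoc Groth.Agent.EtpbcB.BCIso
  Groth.Agent.EtpbcB.BCCalc Groth.Agent.EtpbcB.Psi Groth.Agent.EtpbcB.BCStrict

section general

variable {X Y X' Y' X'' Y'' : Scheme.{u}} {f : X ⟶ Y} {g : Y' ⟶ Y} {f' : X' ⟶ Y'} {g' : X' ⟶ X}
  {f'' : X'' ⟶ Y''} {h : Y'' ⟶ Y'} {h' : X'' ⟶ X'}

/-- Cancellation, reformulated with equalities. -/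
theorem isIso_map_hpaste_eq {Z : Scheme.{u}} (p : Z ⟶ Y'')
    (w₁ : g' ≫ f = f' ≫ g) (w₂ : h' ≫ f' = f'' ≫ h) {k : Y'' ⟶ Y} {k' : X'' ⟶ X}
    (hk : h ≫ g = k) (hk' : h' ≫ g' = k')
    (w : k' ≫ f = f'' ≫ k) (F : Ab X) :
    (IsIso ((pull p).map ((pull h).map (baseChange0 f g f' g' w₁ F))) →
    (IsIso ((pull p).map (baseChange0 f k f'' k' w F)) ↔
    IsIso ((pull p).map (baseChange0 f' h f'' h' w₂ ((pull g').obj F))))) ∧
    (IsIso ((pull p).map (baseChange0 f' h f'' h' w₂ ((pull g').obj F))) →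
    (IsIso ((pull p).map (baseChange0 f k f'' k' w F)) ↔
    IsIso ((pull p).map ((pull h).map (baseChange0 f g f' g' w₁ F))))) := by
  subst hk hk'
  have e := congrArg (fun φ => (pull p).map φ) (baseChange0_hpaste w₁ w₂ w F)
  simp only [Functor.map_comp] at e
  have hk : IsIso ((pull p).map ((push f'').map ((pullComp g' h').hom.app F))) := inferInstance
  have hk0 : IsIso ((pull p).map ((pullComp g h).hom.app ((push f).obj F))) := inferInstance
  refine ⟨fun h1 => ⟨fun h2 => ?_, fun h2 => ?_⟩, fun h1 => ⟨fun h2 => ?_, fun h2 => ?_⟩⟩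
  · have h3 : IsIso ((pull p).map ((pull h).map (baseChange0 f g f' g' w₁ F)) ≫
        (pull p).map (baseChange0 f' h f'' h' w₂ ((pull g').obj F)) ≫
        (pull p).map ((push f'').map ((pullComp g' h').hom.app F))) := by
      rw [← e]; exact IsIso.comp_isIso' hk0 h2
    have h4 := IsIso.of_isIso_comp_left ((pull p).map ((pull h).map (baseChange0 f g f' g' w₁ F)))
      ((pull p).map (baseChange0 f' h f'' h' w₂ ((pull g').obj F)) ≫
        (pull p).map ((push f'').map ((pullComp g' h').hom.app F)))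
    exact IsIso.of_isIso_comp_right _ ((pull p).map ((push f'').map ((pullComp g' h').hom.app F)))
  · have h3 : IsIso ((pull p).map ((pullComp g h).hom.app ((push f).obj F)) ≫
        (pull p).map (baseChange0 f (h ≫ g) f'' (h' ≫ g') w F)) := by
      rw [e]; exact IsIso.comp_isIso' h1 (IsIso.comp_isIso' h2 hk)
    exact IsIso.of_isIso_comp_left ((pull p).map ((pullComp g h).hom.app ((push f).obj F))) _
  · have h3 : IsIso ((pull p).map ((pull h).map (baseChange0 f g f' g' w₁ F)) ≫
        (pull p).map (baseChange0 f' h f'' h' w₂ ((pull g').obj F)) ≫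
        (pull p).map ((push f'').map ((pullComp g' h').hom.app F))) := by
      rw [← e]; exact IsIso.comp_isIso' hk0 h2
    exact IsIso.of_isIso_comp_right _ ((pull p).map (baseChange0 f' h f'' h' w₂ ((pull g').obj F)) ≫
        (pull p).map ((push f'').map ((pullComp g' h').hom.app F)))
  · have h3 : IsIso ((pull p).map ((pullComp g h).hom.app ((push f).obj F)) ≫
        (pull p).map (baseChange0 f (h ≫ g) f'' (h' ≫ g') w F)) := by
      rw [e]; exact IsIso.comp_isIso' h2 (IsIso.comp_isIso' h1 hk)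
    exact IsIso.of_isIso_comp_left ((pull p).map ((pullComp g h).hom.app ((push f).obj F))) _

/-- `pull` of a composition and isomorphisms. -/
theorem isIso_pull_comp_iff {Z : Scheme.{u}} (p : Z ⟶ Y') (q : Z ⟶ Y) (hq : p ≫ g = q)
    {F G : Ab Y} (φ : F ⟶ G) : IsIso ((pull q).map φ) ↔ IsIso ((pull p).map ((pull g).map φ)) := by
  subst hq
  exact (NatIso.isIso_map_iff (pullComp g p) φ).symm

/-- Cancellation on the right for units bijective on global sections. -/
theorem bijAt_unit_left {Z : Scheme.{u}} (f : X ⟶ Y) (g : Z ⟶ X) (G : Ab Y)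
    (h : BijAt ((pullPushAdj (g ≫ f)).unit.app G) (top Y))
    (h₂ : BijAt ((pullPushAdj g).unit.app ((pull f).obj G)) (top X)) :
    BijAt ((pullPushAdj f).unit.app G) (top Y) := by
  rw [unit_pullComp, bijAt_iff_isIso] at h
  have h3 : IsIso (((push f).map ((pullPushAdj g).unit.app ((pull f).obj G)) ≫
      (push f).map ((push g).map ((pullComp f g).hom.app G)) ≫
      (pushComp f g).hom.app ((pull (g ≫ f)).obj G)).hom.app (op (top Y))) := by
    rw [← bijAt_iff_isIso]
    exact bijAt_comp _ _ _ ((bijAt_push_top f _).2 h₂) (bijAt_of_isIso _ _)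
  rw [bijAt_iff_isIso]
  have h4 : IsIso (((pullPushAdj f).unit.app G).hom.app (op (top Y)) ≫
      (((push f).map ((pullPushAdj g).unit.app ((pull f).obj G)) ≫
      (push f).map ((push g).map ((pullComp f g).hom.app G)) ≫
      (pushComp f g).hom.app ((pull (g ≫ f)).obj G)).hom.app
        (op (top Y)))) := h
  exact @IsIso.of_isIso_comp_right _ _ _ _ _ (((pullPushAdj f).unit.app G).hom.app
    (op (top Y))) _ h3 h4

/-- The unit of a composition. -/
theorem UB_of_comp (p : Y'' ⟶ Y') (h1 : UB p) (h2 : UB (p ≫ g)) : UB g := fun G =>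
  bijAt_unit_left g p G (h2 G) (h1 _)

/-- If the unit of `g` is bijective on global sections, then bijectivity of `baseChange0` on global
sections is bijectivity of the unit of `g'`. -/
theorem baseChange0_bijAt_top_iff (w : g' ≫ f = f' ≫ g) (F : Ab X)
    (h₁ : BijAt ((pullPushAdj g).unit.app ((push f).obj F)) (top Y)) :
    BijAt (baseChange0 f g f' g' w F) (top Y') ↔ BijAt ((pullPushAdj g').unit.app F) (top X) := by
  refine ⟨fun h => ?_, fun h => baseChange0_bijAt_top w F h₁ h⟩
  have h2 : BijAt ((pullPushAdj g).unit.app ((push f).obj F) ≫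
      (push g).map (baseChange0 f g f' g' w F)) (top Y) :=
    bijAt_comp _ _ _ h₁ ((bijAt_push_top g _).2 h)
  rw [unit_baseChange0, bijAt_iff_isIso] at h2
  rw [← bijAt_push_top f, bijAt_iff_isIso]
  have h3 := (bijAt_iff_isIso _ _).1 (bijAt_of_isIso ((sq w).hom.app ((pull g').obj F)) (top Y))
  have h4 : IsIso (((push f).map ((pullPushAdj g').unit.app F)).hom.app (op (top Y)) ≫
    ((sq w).hom.app ((pull g').obj F)).hom.app (op (top Y))) := h2
  exact IsIso.of_isIso_comp_right _ (((sq w).hom.app ((pull g').obj F)).hom.app (op (top Y)))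

end general

variable {X S T Y : Scheme.{u}} {f : X ⟶ S} {g : T ⟶ S} {h : Y ⟶ X} {e : Y ⟶ T}
  {Ω : Type u} [Field Ω] [IsSepClosed Ω] (ξ : Spec (CommRingCat.of Ω) ⟶ X)
  (H : IsPullback e h g f)

theorem UB_psi : UB (psi f ξ) := by
  refine UB_of_comp (pt ξ) (IntegralDegZero.Star.UB_pt ξ) ?_
  exact UB.of_eq (pt_psi f ξ).symm (IntegralDegZero.Star.UB_pt (ξ ≫ f))

/-- Degree zero base change at a geometric point. -/
theorem isIso_pull_iff [QuasiCompact g] [QuasiSeparated g] (F : Ab T) :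
    IsIso ((pull ξ).map (baseChange0 g f h e H.w F)) ↔
      BijAt ((pullPushAdj (P ξ H)).unit.app ((pull (pullback.fst g (toBase (ξ ≫ f)))).obj F))
        (top _) := by
  have hqc : QuasiCompact h := MorphismProperty.of_isPullback (P := @QuasiCompact) H ‹_›
  have hqs : QuasiSeparated h := MorphismProperty.of_isPullback (P := @QuasiSeparated) H ‹_›
  have hX := IsPullback.of_hasPullback h (toBase ξ)
  have hS := IsPullback.of_hasPullback g (toBase (ξ ≫ f))
  have hP := (isPullback_P ξ H).flip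
  have hbig := hX.paste_horiz H
  have hk : psi f ξ ≫ toBase (ξ ≫ f) = toBase ξ ≫ f := psi_toBase f ξ
  have hk' : P ξ H ≫ pullback.fst g (toBase (ξ ≫ f)) = pullback.fst h (toBase ξ) ≫ e := P_fst ξ H
  -- first pasting
  have A := (isIso_map_hpaste_eq (pt ξ) H.w hX.w rfl rfl hbig.w F).2
    (IntegralDegZero.Star.isIso_pull_pt_baseChange0 ξ h hX ((pull e).obj F))
  -- second pasting
  have B := (isIso_map_hpaste_eq (pt ξ) hS.w hP.w hk hk' hbig.w F).1
    ((isIso_pull_comp_iff (g := psi f ξ) (pt ξ) (pt (ξ ≫ f)) (pt_psi f ξ) _).1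
      (IntegralDegZero.Star.isIso_pull_pt_baseChange0 (ξ ≫ f) g hS F))
  rw [isIso_pull_comp_iff (g := toBase ξ) (pt ξ) ξ (pt_toBase ξ), ← A, B]
  have h1 := StrictLoc.henselianLocalRing ξ
  have h2 := StrictLoc.isSepClosed_residueField ξ
  have h3 := @LA.bijAt_top_iff_pull (Osh ξ) _ h1 h2 Ω _ _ (pt ξ) (pt_default ξ) _ _
    (baseChange0 (pullback.snd g (toBase (ξ ≫ f))) (psi f ξ) (pullback.snd h (toBase ξ)) (P ξ H)
      hP.w ((pull (pullback.fst g (toBase (ξ ≫ f)))).obj F))
  exact h3.symm.trans (baseChange0_bijAt_top_iff hP.w _ (UB_psi ξ _))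

end Groth.Agent.Etbc.H183.StrictBC0
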