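import Groth.Agent.Etbc.H184.GenSubm
import Groth.Agent.Etbc.H187.PI
import Groth.Agent.Etbc.H189.GeomFib
import Groth.Agent.Etbc.H189.FibBC
import Groth.Agent.Etbc.H192.ZeroAcyc
import Groth.Agent.EtpbcB.Psi
import Groth.Agent.Sga4h.SLocTrans88
import Groth.Agent.VarietyA.GeomIrrS

/-!
# Maps of strict localizations of universally locally `n`-acyclic morphisms

`f : X ⟶ Y` universally locally `n`-acyclic for a set `L` containing a prime.  Then the maps of strict
localizations of `f` are universally submersive and have connected geometric fibres.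
-/

set_option autoImplicit false
universe u
open CategoryTheory CategoryTheory.Limits AlgebraicGeometry Opposite IsLocalRing

namespace Groth.Agent.Etbc.H183.ZeroOfN

open Groth.Agent.EtpbcB.StrictLoc Groth.Agent.EtpbcB.Psi Groth.Agent.EtpbcB.OshHens
open Groth.Agent.Etrest.StrictLoc Groth.Agent.Etbc.H192.ZeroAcyc

theorem weaklyEtale_toBase {X : Scheme.{u}} {Ω : Type u} [Field Ω] [IsSepClosed Ω]
    (ξ : Spec (CommRingCat.of Ω) ⟶ X) : WeaklyEtale (toBase ξ) :=
  Groth.Agent.Sga4h.SLocTrans88.weaklyEtale_of_isStrictLoc (R := Osh ξ) (isStrictLoc_toBase ξ)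

/-- Connected geometric fibres from connected algebraic geometric fibres. -/
theorem sepGeomConnected_of_geomFibres {X Y : Scheme.{u}} {L : Set ℕ} {n : ℕ} {g : X ⟶ Y}
    (h : EtAcyc.GeomFibresAcyclicN L n g) : SepGeomConnected g := by
  intro Ω _ _ s
  let y : Y := s (closedPoint Ω)
  obtain ⟨j, hj⟩ : ∃ j : Y.residueField y ⟶ CommRingCat.of Ω,
      Spec.map j ≫ Y.fromSpecResidueField y = s :=
    ⟨_, (Scheme.SpecToEquivOfField Ω Y).left_inv s⟩
  let k' := AlgebraicClosure (Y.residueField y)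
  let ι := Y.fromSpecResidueField y
  let r : Spec (CommRingCat.of k') ⟶ Spec (CommRingCat.of (Y.residueField y)) :=
    Spec.map (CommRingCat.ofHom (algebraMap (Y.residueField y) k'))
  have h1 : ConnectedSpace ↥(pullback g (r ≫ ι)) := (h y k').2.1
  have h2 : ConnectedSpace ↥(pullback (pullback.snd g ι) r) := by
    let e : pullback (pullback.snd g ι) r ≅ pullback g (r ≫ ι) := pullbackLeftPullbackSndIso g ι r
    exact (Scheme.homeoOfIso e.symm).surjective.connectedSpace (Scheme.homeoOfIso e.symm).continuous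
  have h3 : GeometricallyConnected (pullback.snd g ι) :=
    @Groth.Agent.VarietyA.GeomIrr.geometricallyConnected_of_connectedSpace_of_isSepClosed
      (Y.residueField y) k' _ _ _ _ _ _ (pullback.snd g ι) h2
  have h4 := sepGeomConnected_of_geometricallyConnected (pullback.snd g ι) Ω (Spec.map j)
  let e := (pullbackSymmetry _ _ ≪≫ pullbackLeftPullbackSndIso g ι (Spec.map j) ≪≫
      pullbackSymmetry _ _ ≪≫ pullback.congrHom hj rfl :
      pullback (Spec.map j) (pullback.snd g ι) ≅ pullback s g)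
  exact (Scheme.homeoOfIso e).surjective.connectedSpace (Scheme.homeoOfIso e).continuous

variable {X Y : Scheme.{u}} (f : X ⟶ Y) {L : Set ℕ} {n : ℕ}

/-- The maps of strict localizations of a locally `n`-acyclic morphism are `n`-acyclic. -/
theorem isAcyclicN_psi (hf : EtAcyc.IsLocAcyclicN f L n) {Ω : Type u} [Field Ω] [IsSepClosed Ω]
    (ξ : Spec (CommRingCat.of Ω) ⟶ X) : EtAcyc.IsAcyclicN (psi f ξ) L n := by
  have i1 : IsLocalRing (Osh (ξ ≫ f)) := inferInstance
  have i2 : IsLocalRing (Osh ξ) := inferInstance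
  have h := @Groth.Agent.Etbc.H187.PI.isAcyclicN_of_isStrictLoc X Y f L n hf (Osh ξ)
    (Osh (ξ ≫ f)) _ i2 _ i1 (toBase ξ) (isStrictLoc_toBase _) (toBase (ξ ≫ f))
    (isStrictLoc_toBase _) (psiHom f ξ) (isLocalHom_psiHom f ξ) (by
      have e := spm_psiHom f ξ
      exact (congrArg (· ≫ toBase (ξ ≫ f)) e).trans (psi_toBase f ξ))
  have e : spm (psiHom f ξ) = psi f ξ := spm_psiHom f ξ
  rw [← e]
  exact h

theorem geomFibresAcyclicN_psi (hL : ∃ l ∈ L, l.Prime) (hf : EtAcyc.IsLocAcyclicN f L n)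
    {Ω : Type u} [Field Ω] [IsSepClosed Ω] (ξ : Spec (CommRingCat.of Ω) ⟶ X) :
    EtAcyc.GeomFibresAcyclicN L n (psi f ξ) :=
  Groth.Agent.Etbc.H189.GeomFib.geomFibresAcyclicN (psi f ξ) hL (isAcyclicN_psi f hf ξ)

theorem surjective_psi (hL : ∃ l ∈ L, l.Prime) (hf : EtAcyc.IsLocAcyclicN f L n)
    {Ω : Type u} [Field Ω] [IsSepClosed Ω] (ξ : Spec (CommRingCat.of Ω) ⟶ X) :
    Surjective (psi f ξ) :=
  ⟨Groth.Agent.Etbc.H189.FibBC.surjective_of_geomFibres (geomFibresAcyclicN_psi f hL hf ξ)⟩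

/-- Generizations lift along locally `n`-acyclic morphisms. -/
theorem generalizingMap_of_isLocAcyclicN (hL : ∃ l ∈ L, l.Prime)
    (hf : EtAcyc.IsLocAcyclicN f L n) : GeneralizingMap f := by
  intro x y hy
  obtain ⟨Ω, _, _, ξ, rfl⟩ := Groth.Agent.Sga4A.EtStalk.exists_geomPoint X x
  have w1 : WeaklyEtale (toBase (ξ ≫ f)) := weaklyEtale_toBase (ξ ≫ f)
  have h1 : GeneralizingMap (toBase (ξ ≫ f)) := Flat.generalizingMap _
  have e1 : toBase (ξ ≫ f) (pt (ξ ≫ f) default) = f (ξ default) := by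
    rw [← Scheme.Hom.comp_apply, pt_toBase, Scheme.Hom.comp_apply]
  obtain ⟨c, hc, hcy⟩ := @h1 (pt (ξ ≫ f) default) y (by rw [e1]; exact hy)
  obtain ⟨b, rfl⟩ := (surjective_psi f hL hf ξ).surj c
  refine ⟨toBase ξ b, ?_, ?_⟩
  · have h2 : b ⤳ pt ξ default := by
      rw [pt_default]
      exact specializes_closedPoint (R := Osh ξ) b
    have h3 := h2.map (toBase ξ).continuous
    rwa [← Scheme.Hom.comp_apply, pt_toBase] at h3
  · rw [← hcy, ← Scheme.Hom.comp_apply, ← Scheme.Hom.comp_apply, psi_toBase]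

/-- The maps of strict localizations of a universally locally `n`-acyclic morphism are universally
submersive. -/
theorem isUnivSubmersive_psi (hL : ∃ l ∈ L, l.Prime) (hf : EtAcyc.IsULocAcyclicN f L n)
    {Ω : Type u} [Field Ω] [IsSepClosed Ω] (ξ : Spec (CommRingCat.of Ω) ⟶ X) :
    EtDesc.IsUnivSubmersive (psi f ξ) := by
  have hf0 : EtAcyc.IsLocAcyclicN f L n := hf f (𝟙 _) (𝟙 _) (IsPullback.of_id_fst)
  have hs := surjective_psi f hL hf0 ξ
  apply Groth.Agent.Etbc.H184.GenSubm.isUnivSubmersive_of_generalizing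
  intro T' T j k p H
  -- `T' = T ×_{O_S^sh} O_X^sh ⟶ T ×_S X ⟶ T`
  have w1 : WeaklyEtale (toBase (ξ ≫ f)) := weaklyEtale_toBase (ξ ≫ f)
  have w2 : WeaklyEtale (toBase ξ) := weaklyEtale_toBase ξ
  let Z := pullback f (toBase (ξ ≫ f))
  let m : Spec (Osh ξ) ⟶ Z := pullback.lift (toBase ξ) (psi f ξ) (psi_toBase f ξ).symm
  have hm1 : m ≫ pullback.fst f (toBase (ξ ≫ f)) = toBase ξ := pullback.lift_fst _ _ _
  have hm2 : m ≫ pullback.snd f (toBase (ξ ≫ f)) = psi f ξ := pullback.lift_snd _ _ _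
  have w3 : WeaklyEtale (m ≫ pullback.fst f (toBase (ξ ≫ f))) := by rw [hm1]; exact w2
  have w4 : WeaklyEtale m := WeaklyEtale.of_comp m (pullback.fst f (toBase (ξ ≫ f)))
  -- base change to `T`
  let Z' := pullback (pullback.snd f (toBase (ξ ≫ f))) j
  let m' : T' ⟶ Z' := pullback.lift (k ≫ m) p (by rw [Category.assoc, hm2, H.w])
  have hm1' : m' ≫ pullback.fst _ j = k ≫ m := pullback.lift_fst _ _ _
  have hm2' : m' ≫ pullback.snd _ j = p := pullback.lift_snd _ _ _
  have H1 : IsPullback (pullback.fst (pullback.snd f (toBase (ξ ≫ f))) j) (pullback.snd _ j)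
    (pullback.snd f (toBase (ξ ≫ f))) j := IsPullback.of_hasPullback _ _
  have H2 : IsPullback k m' m (pullback.fst (pullback.snd f (toBase (ξ ≫ f))) j) := by
    refine IsPullback.of_bot ?_ hm1'.symm H1
    rw [hm2', hm2]
    exact H
  have w5 : WeaklyEtale m' := MorphismProperty.of_isPullback H2 w4
  have H3 : IsPullback (pullback.fst (pullback.snd f (toBase (ξ ≫ f))) j ≫
      pullback.fst f (toBase (ξ ≫ f))) (pullback.snd _ j) f (j ≫ toBase (ξ ≫ f)) :=
    H1.paste_horiz (IsPullback.of_hasPullback f (toBase (ξ ≫ f)))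
  have g1 : GeneralizingMap (pullback.snd (pullback.snd f (toBase (ξ ≫ f))) j) :=
    generalizingMap_of_isLocAcyclicN _ hL (hf _ _ _ H3)
  have g2 : GeneralizingMap m' := Flat.generalizingMap _
  have g3 := g2.comp g1
  rw [← hm2', Scheme.Hom.comp_base, TopCat.coe_comp]
  exact g3

/-- The maps of strict localizations of a universally locally `n`-acyclic morphism have connected
geometric fibres. -/
theorem sepGeomConnected_psi (hL : ∃ l ∈ L, l.Prime) (hf : EtAcyc.IsULocAcyclicN f L n)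
    {Ω : Type u} [Field Ω] [IsSepClosed Ω] (ξ : Spec (CommRingCat.of Ω) ⟶ X) :
    SepGeomConnected (psi f ξ) :=
  sepGeomConnected_of_geomFibres
    (geomFibresAcyclicN_psi f hL (hf f (𝟙 _) (𝟙 _) (IsPullback.of_id_fst)) ξ)

end Groth.Agent.Etbc.H183.ZeroOfN
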